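import Groth.Agent.CAlgH.AnnulusUnits.Theta
import Mathlib.RingTheory.DiscreteValuationRing.Basic
import Mathlib.RingTheory.DiscreteValuationRing.TFAE
import Mathlib.RingTheory.UniqueFactorizationDomain.Basic
import Mathlib.RingTheory.Filtration

/-!
# Gauss lemma for `R[[x, y]] / (xy - r)`
-/

set_option autoImplicit false

universe u v

open Function MvPowerSeries IsLocalRing

namespace Groth.Agent.CAlgH.AnnulusUnits

variable {R : Type u} [CommRing R]

/-- The ideal generated by `xy - r`. -/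
noncomputable def annI (r : R) : Ideal (MvPowerSeries (Fin 2) R) :=
  Ideal.span {(X 0 * X 1 - C r : MvPowerSeries (Fin 2) R)}

theorem swap_mem {r : R} {f : MvPowerSeries (Fin 2) R} (hf : f ∈ annI r) : swap f ∈ annI r := by
  obtain ⟨q, rfl⟩ := Ideal.mem_span_singleton.1 hf
  rw [map_mul, map_sub, map_mul, swap_X_zero, swap_X_one, swap_C, mul_comm (X 1) (X 0)]
  exact Ideal.mul_mem_right _ _ (Ideal.subset_span rfl)

theorem swap_nf_mul {r s : R} {c d : ℤ → R} (h : nf c * nf d - C s ∈ annI r) :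
    (nf fun n => c (-n)) * (nf fun n => d (-n)) - C s ∈ annI r := by
  have := swap_mem h
  rwa [map_sub, map_mul, swap_nf, swap_nf, swap_C] at this

/-- The Gauss lemma for the Laurent expansions in a discrete valuation ring. -/
theorem dvd_coeff_mul_coeff {V : Type v} [CommRing V] [IsDomain V] [IsDiscreteValuationRing V]
    (φ : R →+* V) {r s : R} (hr : φ r ∈ maximalIdeal V) (c d : ℤ → R)
    (h : nf c * nf d - C s ∈ annI r) (i₁ j₁ : ℤ) :
    φ s ∣ φ (c i₁ * r ^ (-i₁).toNat) * φ (d j₁ * r ^ (-j₁).toNat) := by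
  classical
  obtain ⟨p, hp⟩ := IsDiscreteValuationRing.exists_irreducible V
  let A := fun i : ℤ => φ (c i * r ^ (-i).toNat)
  let B := fun j : ℤ => φ (d j * r ^ (-j).toNat)
  by_contra hdvd
  change ¬ φ s ∣ A i₁ * B j₁ at hdvd
  have hA0 : A i₁ ≠ 0 := fun h0 => hdvd (by simp [h0])
  have hB0 : B j₁ ≠ 0 := fun h0 => hdvd (by simp [h0])
  obtain ⟨k₁, uA, huA⟩ := IsDiscreteValuationRing.eq_unit_mul_pow_irreducible hA0 hp
  obtain ⟨l₁, uB, huB⟩ := IsDiscreteValuationRing.eq_unit_mul_pow_irreducible hB0 hp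
  have hex : ∀ (F : ℤ → V) (i : ℤ) (k : ℕ) (w : Vˣ), F i = w * p ^ k →
      ∃ m ≤ k, (∀ n, p ^ m ∣ F n) ∧ ∃ n, ¬ p ^ (m + 1) ∣ F n := by
    intro F i k w hF
    have hE : ∃ m, ∃ n, ¬ p ^ (m + 1) ∣ F n := ⟨k, i, fun hh => by
      rw [hF, Units.dvd_mul_left, pow_dvd_pow_iff hp.ne_zero hp.not_isUnit] at hh
      omega⟩
    refine ⟨Nat.find hE, Nat.find_min' hE ⟨i, fun hh => ?_⟩, fun n => ?_, Nat.find_spec hE⟩
    · rw [hF, Units.dvd_mul_left, pow_dvd_pow_iff hp.ne_zero hp.not_isUnit] at hh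
      omega
    · rcases Nat.eq_zero_or_pos (Nat.find hE) with h0 | h0
      · simp [h0]
      · by_contra hn
        refine Nat.find_min hE (Nat.sub_lt h0 Nat.one_pos) ⟨n, ?_⟩
        rwa [Nat.sub_add_cancel h0]
  obtain ⟨k, hk, hkA, i₀, hi₀⟩ := hex A i₁ k₁ uA huA
  obtain ⟨l, hl, hlB, j₀, hj₀⟩ := hex B j₁ l₁ uB huB
  let M := k + l + 1
  have hs : p ^ M ∣ φ s := by
    by_cases hs0 : φ s = 0
    · simp [hs0]
    obtain ⟨e, us, hus⟩ := IsDiscreteValuationRing.eq_unit_mul_pow_irreducible hs0 hp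
    have : ¬ e ≤ k₁ + l₁ := fun he => hdvd (by
      rw [hus, huA, huB, Units.mul_left_dvd]
      exact Dvd.dvd.trans (pow_dvd_pow p he) ⟨uA * uB, by ring⟩)
    rw [hus]
    exact dvd_mul_of_dvd_right (pow_dvd_pow p (by omega)) _
  let W := V ⧸ Ideal.span {p ^ M}
  let mkW : V →+* W := Ideal.Quotient.mk _
  have hmk : ∀ x, mkW x = 0 ↔ p ^ M ∣ x := fun x => by
    rw [Ideal.Quotient.eq_zero_iff_mem, Ideal.mem_span_singleton]
  have hrp : p ∣ φ r := by
    rwa [hp.maximalIdeal_eq, Ideal.mem_span_singleton] at hr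
  have hM : (mkW.comp φ) r ^ M = 0 := by
    show mkW (φ r) ^ M = 0
    rw [← map_pow, hmk]
    exact pow_dvd_pow_of_dvd hrp M
  have hbig : ∀ (F : ℤ → R) (n : ℤ), n ≤ -(M : ℤ) → p ^ M ∣ φ (F n * r ^ (-n).toNat) := fun F n hn => by
    rw [map_mul, map_pow]
    exact dvd_mul_of_dvd_right ((pow_dvd_pow p (by omega)).trans (pow_dvd_pow_of_dvd hrp _)) _
  choose A' hA' using hkA
  choose B' hB' using hlB
  have hbdd : ∀ F : ℤ → V, BddBelow (Function.support fun n : ℤ => if n ≤ -(M : ℤ) then 0 else mkW (F n)) := fun F =>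
    ⟨-(M : ℤ), fun n hn => le_of_not_gt fun h' => hn (if_pos h'.le)⟩
  let a : LaurentSeries W := HahnSeries.ofSuppBddBelow _ (hbdd A')
  let b : LaurentSeries W := HahnSeries.ofSuppBddBelow _ (hbdd B')
  let th := theta (mkW.comp φ) r M hM
  have hth : ∀ (F : ℤ → R) (G : ℤ → V) (m : ℕ), (∀ n, φ (F n * r ^ (-n).toNat) = p ^ m * G n) →
      th (nf F) = HahnSeries.C (mkW (p ^ m)) * HahnSeries.ofSuppBddBelow _ (hbdd G) := fun F G m hFG => by
    ext n
    rw [coeff_theta_nf _ r M hM F n (Nat.succ_pos _), HahnSeries.C_mul_eq_smul, HahnSeries.coeff_smul, smul_eq_mul]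
    show mkW (φ (F n * r ^ (-n).toNat)) = mkW (p ^ m) * (if n ≤ -(M : ℤ) then 0 else mkW (G n))
    split_ifs with hn
    · rw [mul_zero, hmk]
      exact hbig F n hn
    · rw [hFG, map_mul]
  have hab : HahnSeries.C (mkW (p ^ (k + l))) * (a * b) = 0 := by
    have hsplit : (HahnSeries.C (mkW (p ^ (k + l))) : LaurentSeries W) =
        HahnSeries.C (mkW (p ^ k)) * HahnSeries.C (mkW (p ^ l)) := by
      rw [← map_mul, ← map_mul]
      exact congrArg (fun x => (HahnSeries.C (mkW x) : LaurentSeries W)) (pow_add p k l)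
    rw [hsplit, mul_mul_mul_comm, ← hth c A' k hA', ← hth d B' l hB',
      theta_mul_nf _ r M hM (Nat.succ_pos _) c d s h]
    show HahnSeries.C (mkW (φ s)) = 0
    rw [(hmk _).2 hs, map_zero]
  -- reduction to the residue field
  let κ := V ⧸ Ideal.span {p}
  have : (Ideal.span {p}).IsMaximal := by
    rw [← hp.maximalIdeal_eq]; infer_instance
  let _ : Field κ := Ideal.Quotient.field _
  let ψ : W →+* κ := Ideal.Quotient.factor (by
    rw [Ideal.span_singleton_le_span_singleton]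
    exact dvd_pow_self p (Nat.succ_ne_zero _))
  have hψ : ∀ x : V, ψ (mkW x) = 0 ↔ p ∣ x := fun x => by
    rw [Ideal.Quotient.factor_mk, Ideal.Quotient.eq_zero_iff_mem, Ideal.mem_span_singleton]
  have hne : ∀ (F : ℤ → R) (G : ℤ → V) (m : ℕ) (n : ℤ), m < M →
      (∀ n, φ (F n * r ^ (-n).toNat) = p ^ m * G n) → ¬ p ^ (m + 1) ∣ φ (F n * r ^ (-n).toNat) →
      (HahnSeries.ofSuppBddBelow _ (hbdd G)).map (ψ : W →ₙ+* κ) ≠ (0 : LaurentSeries κ) := by
    intro F G m n hm hFG hn h0
    have hnM : ¬ n ≤ -(M : ℤ) := fun h' => hn ((pow_dvd_pow p (by omega)).trans (hbig F n h'))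
    have := congrArg (fun x : LaurentSeries κ => x.coeff n) h0
    simp only [HahnSeries.map_coeff, HahnSeries.coeff_zero] at this
    change ψ (if n ≤ -(M : ℤ) then 0 else mkW (G n)) = 0 at this
    rw [if_neg hnM, hψ] at this
    exact hn (by rw [hFG, pow_succ]; exact mul_dvd_mul_left _ this)
  have hmap : (a * b).map (ψ : W →ₙ+* κ) = (0 : LaurentSeries κ) := by
    ext n
    rw [HahnSeries.map_coeff, HahnSeries.coeff_zero]
    obtain ⟨x, hx⟩ := Ideal.Quotient.mk_surjective ((a * b).coeff n)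
    rw [← hx]
    refine (hψ x).2 ?_
    have := congrArg (fun y : LaurentSeries W => y.coeff n) hab
    simp only [HahnSeries.C_mul_eq_smul, HahnSeries.coeff_smul, smul_eq_mul, HahnSeries.coeff_zero] at this
    rw [← hx] at this
    change mkW (p ^ (k + l)) * mkW x = 0 at this
    rw [← map_mul, hmk, pow_succ] at this
    exact (mul_dvd_mul_iff_left (pow_ne_zero _ hp.ne_zero)).1 this
  rw [HahnSeries.map_mul] at hmap
  exact mul_ne_zero (hne c A' k i₀ (by omega) hA' hi₀) (hne d B' l j₀ (by omega) hB' hj₀) hmap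

/-- Divisibility in a unique factorization domain, checked at the localisations at principal primes. -/
theorem dvd_of_forall_localization [IsDomain R] [UniqueFactorizationMonoid R] (s : R) (hs : s ≠ 0) :
    ∀ t : R, (∀ (π : R) (_ : (Ideal.span {π}).IsPrime), Prime π → π ∣ s →
      algebraMap R (Localization.AtPrime (Ideal.span {π})) s ∣
        algebraMap R (Localization.AtPrime (Ideal.span {π})) t) → s ∣ t := by
  induction s using UniqueFactorizationMonoid.induction_on_prime with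
  | h₁ => exact absurd rfl hs
  | h₂ x hx => exact fun t _ => hx.dvd
  | h₃ s π hs0 hπ ih =>
    intro t h
    have : (Ideal.span {π}).IsPrime := (Ideal.span_singleton_prime hπ.ne_zero).2 hπ
    let L := Localization.AtPrime (Ideal.span {π})
    have hπt : π ∣ t := by
      obtain ⟨z, hz⟩ := h π this hπ (dvd_mul_right π s)
      rw [← Ideal.mem_span_singleton, ← IsLocalization.AtPrime.to_map_mem_maximal_iff L (Ideal.span {π}) t, hz, map_mul, mul_assoc]
      exact Ideal.mul_mem_right _ _ ((IsLocalization.AtPrime.to_map_mem_maximal_iff L _ π).2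
        (Ideal.mem_span_singleton_self π))
    obtain ⟨t', rfl⟩ := hπt
    refine mul_dvd_mul_left π (ih hs0 t' fun ρ hρ hρp hρs => ?_)
    have := h ρ hρ hρp (dvd_mul_of_dvd_right hρs π)
    rw [map_mul, map_mul, mul_dvd_mul_iff_left] at this
    · exact this
    · rw [Ne, IsLocalization.to_map_eq_zero_iff (Localization.AtPrime (Ideal.span {ρ}))
        (Ideal.span {ρ}).primeCompl_le_nonZeroDivisors]
      exact hπ.ne_zero

theorem isDiscreteValuationRing_localization [IsDomain R] [IsNoetherianRing R] {π : R} (hπ : Prime π)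
    [(Ideal.span {π}).IsPrime] : IsDiscreteValuationRing (Localization.AtPrime (Ideal.span {π})) := by
  let L := Localization.AtPrime (Ideal.span {π})
  have hmax : maximalIdeal L = Ideal.span {algebraMap R L π} := by
    rw [← IsLocalization.AtPrime.map_eq_maximalIdeal (Ideal.span {π}) L, Ideal.map_span, Set.image_singleton]
  have hne : algebraMap R L π ≠ 0 := by
    rw [Ne, IsLocalization.to_map_eq_zero_iff L (Ideal.span {π}).primeCompl_le_nonZeroDivisors]
    exact hπ.ne_zero
  have hnf : ¬ IsField L := fun hf => hne (by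
    have : algebraMap R L π ∈ maximalIdeal L := hmax ▸ Ideal.mem_span_singleton_self _
    rwa [isField_iff_maximalIdeal_eq.1 hf, Ideal.mem_bot] at this)
  exact ((IsDiscreteValuationRing.TFAE L hnf).out 4 0 :).1 ⟨⟨_, hmax⟩⟩

/-- `s` is congruent modulo `s · 𝔪` to a unique diagonal term. -/
theorem exists_coeff_eq_mul_unit [IsDomain R] [IsNoetherianRing R] [IsLocalRing R] {r s : R}
    (hr : r ∈ maximalIdeal R) (hs : s ≠ 0) (c d : ℤ → R) (h : nf c * nf d - C s ∈ annI r)
    (hdvd : ∀ i : ℤ, s ∣ c i * d (-i) * r ^ i.natAbs) :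
    ∃ (N : ℤ) (u : Rˣ), c N * d (-N) * r ^ N.natAbs = s * u := by
  classical
  by_contra hcon
  push Not at hcon
  let J : Ideal R := Ideal.span {s} * maximalIdeal R
  have hterm : ∀ i : ℤ, c i * d (-i) * r ^ i.natAbs ∈ J := fun i => by
    obtain ⟨x, hx⟩ := hdvd i
    rw [hx]
    refine Ideal.mul_mem_mul (Ideal.mem_span_singleton_self s) ((mem_maximalIdeal _).2 fun hu => ?_)
    exact hcon i hu.unit (by rw [hx, hu.unit_spec])
  have hall : ∀ M : ℕ, 0 < M → s ∈ J ⊔ maximalIdeal R ^ M := by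
    intro M hM0
    let φ : R →+* R ⧸ maximalIdeal R ^ M := Ideal.Quotient.mk _
    have hM : φ r ^ M = 0 := by
      rw [← map_pow, Ideal.Quotient.eq_zero_iff_mem]
      exact Ideal.pow_mem_pow hr M
    have := congrArg (fun y => y.coeff (0 : ℤ)) (theta_mul_nf φ r M hM hM0 c d s h)
    simp only [HahnSeries.coeff_mul, HahnSeries.C_apply, HahnSeries.coeff_single_same] at this
    have hmem : φ s ∈ J.map φ := by
      rw [← this]
      refine Ideal.sum_mem _ fun ij hij => ?_
      rw [Finset.mem_addAntidiagonal] at hij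
      have hj : ij.2 = -ij.1 := by omega
      rw [coeff_theta_nf φ r M hM c _ hM0, coeff_theta_nf φ r M hM d _ hM0, ← map_mul, hj]
      refine Ideal.mem_map_of_mem φ ?_
      have he : (-ij.1).toNat + (- -ij.1).toNat = ij.1.natAbs := by omega
      rw [mul_mul_mul_comm, ← pow_add, he]
      exact hterm _
    rw [Ideal.mem_quotient_iff_mem_sup] at hmem
    exact hmem
  have hk : (Ideal.Quotient.mk J s) ∈ (⨅ M : ℕ, maximalIdeal R ^ M • (⊤ : Submodule R (R ⧸ J))) := by
    rw [Submodule.mem_iInf]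
    intro M
    obtain ⟨j, hj, x, hx, hjx⟩ := Submodule.mem_sup.1 (hall (M + 1) (Nat.succ_pos M))
    rw [← hjx, map_add, Ideal.Quotient.eq_zero_iff_mem.2 hj, zero_add,
      show (Ideal.Quotient.mk J x) = x • (1 : R ⧸ J) from (mul_one _).symm.trans (Algebra.smul_def x 1).symm]
    exact Submodule.smul_mem_smul (Ideal.pow_le_pow_right (Nat.le_succ M) hx) Submodule.mem_top
  rw [Ideal.iInf_pow_smul_eq_bot_of_le_jacobson _ (IsLocalRing.maximalIdeal_le_jacobson _), Submodule.mem_bot,
    Ideal.Quotient.eq_zero_iff_mem, Ideal.mem_span_singleton_mul] at hk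
  obtain ⟨x, hx, hsx⟩ := hk
  have : x = 1 := mul_left_cancel₀ hs (hsx.trans (mul_one s).symm)
  exact (mem_maximalIdeal x).1 hx (this ▸ isUnit_one)

end Groth.Agent.CAlgH.AnnulusUnits
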