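import Groth.Agent.CAlgH.AnnulusUnits.Gauss
import Groth.Agent.DVRDom.Basic
import Mathlib.RingTheory.AdicCompletion.Basic
import Mathlib.RingTheory.MvPowerSeries.Inverse
import Mathlib.RingTheory.MvPowerSeries.NoZeroDivisors

/-!
# Units of the generic fibre of `R[[x, y]] / (xy - r)`
-/

set_option autoImplicit false

universe u

open Function MvPowerSeries IsLocalRing

namespace Groth.Agent.CAlgH.AnnulusUnits

variable {R : Type u} [CommRing R]

theorem coeff_X_mul_X_mul (f : MvPowerSeries (Fin 2) R) (a b : ℕ) :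
    coeff (ex a b) (X 0 * X 1 * f) = if 0 < a ∧ 0 < b then coeff (ex (a - 1) (b - 1)) f else 0 := by
  classical
  have hx : (X 0 * X 1 : MvPowerSeries (Fin 2) R) = monomial (ex 1 1) 1 := by
    rw [X, X, monomial_mul_monomial, mul_one, ex]
  rw [hx, coeff_monomial_mul, one_mul]
  have hle : ex 1 1 ≤ ex a b ↔ 0 < a ∧ 0 < b := by
    rw [Finsupp.le_def, Fin.forall_fin_two]; simp [Nat.one_le_iff_ne_zero, Nat.pos_iff_ne_zero]
  have hsub : ex a b - ex 1 1 = ex (a - 1) (b - 1) := by
    ext i; fin_cases i <;> simp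
  simp only [hle, hsub]

theorem coeff_X_one_mul (f : MvPowerSeries (Fin 2) R) (a b : ℕ) :
    coeff (ex a b) (X 1 * f) = if 0 < b then coeff (ex a (b - 1)) f else 0 := by
  classical
  have hx : (X 1 : MvPowerSeries (Fin 2) R) = monomial (ex 0 1) 1 := by
    rw [X, ex, Finsupp.single_zero, zero_add]
  rw [hx, coeff_monomial_mul, one_mul]
  have hle : ex 0 1 ≤ ex a b ↔ 0 < b := by
    rw [Finsupp.le_def, Fin.forall_fin_two]; simp [Nat.one_le_iff_ne_zero, Nat.pos_iff_ne_zero]
  have hsub : ex a b - ex 0 1 = ex a (b - 1) := by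
    ext i; fin_cases i <;> simp
  simp only [hle, hsub]

theorem nf_mul_C (c : ℤ → R) (t : R) : C t * nf c = nf fun i => t * c i := by
  ext e
  rw [eq_ex e, coeff_C_mul, coeff_nf, coeff_nf]
  split_ifs <;> simp

/-- One step: `y * nf c` in normal form. -/
theorem X_one_mul_nf (r : R) (c : ℤ → R) :
    X 1 * nf c - (nf fun i => (if i ≤ 0 then r else 1) * c (i - 1)) ∈ annI r := by
  classical
  let h : MvPowerSeries (Fin 2) R := fun e => if e 1 = 0 then c (-(e 0 : ℤ) - 1) else 0
  have hh : ∀ a b : ℕ, coeff (ex a b) h = if b = 0 then c (-(a : ℤ) - 1) else 0 := fun a b => by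
    rw [coeff_apply]; simp [h]
  refine Ideal.mem_span_singleton.2 ⟨h, ?_⟩
  ext e
  rw [eq_ex e, sub_mul, map_sub, map_sub, coeff_X_one_mul, coeff_X_mul_X_mul, coeff_C_mul, coeff_nf,
    coeff_nf, hh, hh]
  generalize e 0 = a
  generalize e 1 = b
  rcases Nat.eq_zero_or_pos b with rfl | hb <;> rcases Nat.eq_zero_or_pos a with rfl | ha
  · simp
  · simp [ha, show -(a : ℤ) ≤ 0 by omega, sub_eq_add_neg]
  · simp only [lt_irrefl, false_and, if_false, hb, if_true, eq_self_iff_true, true_or, Nat.cast_zero,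
      sub_zero, hb.ne', mul_zero, sub_self]
    rw [if_neg (by omega), one_mul, Nat.cast_sub hb]
    simp
  · simp only [ha, hb, and_self, if_true, ha.ne', hb.ne', false_or, if_false, mul_zero, sub_zero]
    rcases Nat.lt_or_ge 1 b with h1 | h1
    · rw [if_neg (by omega), if_neg (by omega)]
    · obtain rfl : b = 1 := by omega
      rw [if_pos rfl, if_pos rfl, Nat.cast_sub ha]
      congr 1
      push_cast
      ring

/-- `y ^ N * nf c` in normal form. -/
theorem X_one_pow_mul_nf (r : R) (N : ℕ) : ∀ c : ℤ → R,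
    X 1 ^ N * nf c - (nf fun i => r ^ (N - i.toNat) * c (i - N)) ∈ annI r := by
  induction N with
  | zero => intro c; simp
  | succ N ih =>
    intro c
    let c' := fun i : ℤ => r ^ (N - i.toNat) * c (i - N)
    have h : X 1 * (X 1 ^ N * nf c - nf c') + (X 1 * nf c' - nf fun i => (if i ≤ 0 then r else 1) * c' (i - 1)) ∈
        annI r := Ideal.add_mem _ (Ideal.mul_mem_left _ _ (ih c)) (X_one_mul_nf r c')
    convert h using 1
    have : (fun i : ℤ => r ^ (N + 1 - i.toNat) * c (i - (N + 1 : ℕ))) =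
        fun i => (if i ≤ 0 then r else 1) * c' (i - 1) := by
      funext i
      simp only [c']
      rw [show i - 1 - (N : ℤ) = i - (N + 1 : ℕ) by omega, ← mul_assoc]
      congr 1
      split_ifs with hi
      · rw [show (i - 1).toNat = 0 by omega, show i.toNat = 0 by omega, ← pow_succ']
        simp
      · rw [one_mul]
        congr 1
        omega
    rw [this]
    ring

/-- The element `a` of `R[[x,y]]/(xy - r)` is a constant times a monomial times a unit. -/
def Good (r : R) (a : MvPowerSeries (Fin 2) R) : Prop :=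
  ∃ (t : R) (m n : ℕ) (u : MvPowerSeries (Fin 2) R), IsUnit u ∧ m * n = 0 ∧
    a - C t * X 0 ^ n * X 1 ^ m * u ∈ annI r

theorem Good.swap {r : R} {a : MvPowerSeries (Fin 2) R} (h : Good r a) : Good r (swap a) := by
  obtain ⟨t, m, n, u, hu, hmn, h⟩ := h
  refine ⟨t, n, m, AnnulusUnits.swap u, hu.map _, by rw [mul_comm]; exact hmn, ?_⟩
  have := swap_mem h
  rw [map_sub, map_mul, map_mul, map_mul, map_pow, map_pow, swap_X_zero, swap_X_one, swap_C] at this
  convert this using 1
  ring

variable [IsDomain R] [UniqueFactorizationMonoid R] [IsNoetherianRing R] [IsLocalRing R]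

/-- The case where a diagonal product at a non-negative index is `s` times a unit. -/
theorem good_of_index {r s : R} (hr : r ∈ maximalIdeal R) (hr0 : r ≠ 0) (hs : s ≠ 0) (c d : ℤ → R)
    (h : nf c * nf d - C s ∈ annI r) (hsr : ∀ π, Prime π → π ∣ s → π ∣ r) (N : ℕ) (u : Rˣ)
    (hN : c N * d (-N) * r ^ N = s * u) : Good r (nf c) := by
  have hne : c N * d (-N) * r ^ N ≠ 0 := by rw [hN]; simp [hs]
  have hc0 : c N ≠ 0 := left_ne_zero_of_mul (left_ne_zero_of_mul hne)
  have hd0 : d (-N) ≠ 0 := right_ne_zero_of_mul (left_ne_zero_of_mul hne)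
  have hdiv : ∀ i : ℤ, c N * r ^ (N - i.toNat) ∣ c i := fun i => by
    refine dvd_of_forall_localization _ (mul_ne_zero hc0 (pow_ne_zero _ hr0)) _ fun π hπ' hπ hπd => ?_
    have := hπ'
    let L := Localization.AtPrime (Ideal.span {π})
    have := isDiscreteValuationRing_localization hπ
    let φ := algebraMap R L
    have hπs : π ∣ s := (Units.dvd_mul_right (u := u)).1 (hN ▸ (show π ∣ c N * d (-N) * r ^ N from
      hπd.trans ⟨d (-N) * r ^ (N - (N - i.toNat)), by
        rw [mul_mul_mul_comm, ← pow_add, Nat.add_sub_cancel' (Nat.sub_le _ _)]⟩))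
    have hrL : φ r ∈ maximalIdeal L :=
      (IsLocalization.AtPrime.to_map_mem_maximal_iff L (Ideal.span {π}) r).2
        (Ideal.mem_span_singleton.2 (hsr π hπ hπs))
    have hφ : ∀ x : R, x ≠ 0 → φ x ≠ 0 := fun x hx => by
      rw [Ne, IsLocalization.to_map_eq_zero_iff L (Ideal.span {π}).primeCompl_le_nonZeroDivisors]
      exact hx
    have key : ∀ x : R, φ (c N * d (-N) * r ^ N) ∣ φ x * φ (d (-N)) → φ (c N * r ^ N) ∣ φ x := fun x hx => by
      rw [show c N * d (-N) * r ^ N = c N * r ^ N * d (-N) by ring, map_mul φ _ (d (-N))] at hx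
      exact (mul_dvd_mul_iff_right (hφ _ hd0)).1 hx
    have hs' : φ (c N * d (-N) * r ^ N) ∣ φ s := by rw [hN, map_mul]; exact (u.isUnit.map φ).mul_right_dvd.2 dvd_rfl
    have h1 : φ (c N * r ^ N) ∣ φ (c i * r ^ (-i).toNat * r ^ N) := by
      refine key _ (hs'.trans ((dvd_coeff_mul_coeff φ hrL c d h i (-N)).trans ?_))
      simp only [neg_neg, Int.toNat_natCast, map_mul, map_pow]
      exact ⟨1, by ring⟩
    have h2 : φ (c N * r ^ N) ∣ φ (c i * r ^ i.toNat) := by
      refine key _ (hs'.trans ((dvd_coeff_mul_coeff φ hrL _ _ (swap_nf_mul h) (-i) N).trans ?_))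
      simp only [neg_neg, show (-(N : ℤ)).toNat = 0 by omega, pow_zero, mul_one, map_mul, map_pow]
      exact dvd_rfl
    rcases le_or_gt (N : ℤ) i with hi | hi
    · rw [show N - i.toNat = 0 by omega, pow_zero, mul_one]
      rw [show (-i).toNat = 0 by omega, pow_zero, mul_one, map_mul, map_mul] at h1
      exact (mul_dvd_mul_iff_right (hφ _ (pow_ne_zero N hr0))).1 h1
    · have : N = (N - i.toNat) + i.toNat := by omega
      rw [this, pow_add, ← mul_assoc, map_mul, map_mul φ (c i)] at h2
      rw [← this] at h2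
      exact (mul_dvd_mul_iff_right (hφ _ (pow_ne_zero _ hr0))).1 h2
  choose t ht using hdiv
  have ht0 : t N = 1 := by
    have := ht N
    rw [show N - (N : ℤ).toNat = 0 by simp, pow_zero, mul_one] at this
    exact (mul_left_cancel₀ hc0 (this.symm.trans (mul_one _).symm))
  refine ⟨c N, N, 0, nf fun j => t (j + N), ?_, mul_zero _, ?_⟩
  · rw [MvPowerSeries.isUnit_iff_constantCoeff, ← coeff_zero_eq_constantCoeff_apply]
    have : (0 : Fin 2 →₀ ℕ) = ex 0 0 := by simp [ex]
    rw [this, coeff_nf, if_pos (Or.inl rfl)]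
    simp [ht0]
  · have := Ideal.mul_mem_left _ (C (c N)) (X_one_pow_mul_nf r N fun j => t (j + N))
    rw [mul_sub, nf_mul_C] at this
    have hc : (fun i : ℤ => c N * (r ^ (N - i.toNat) * t (i - N + N))) = c := by
      funext i
      rw [sub_add_cancel, ← mul_assoc]
      exact (ht i).symm
    rw [hc] at this
    rw [pow_zero, mul_one, ← neg_mem_iff]
    convert this using 1
    ring

omit [UniqueFactorizationMonoid R] [IsLocalRing R] in
/-- Cancellation of a prime not dividing `r`. -/
theorem mem_annI_of_C_mul {r : R} {π : R} (hπ : Prime π) (hπr : ¬ π ∣ r) {g : MvPowerSeries (Fin 2) R}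
    (h : C π * g ∈ annI r) : g ∈ annI r := by
  classical
  have : (Ideal.span {π}).IsPrime := (Ideal.span_singleton_prime hπ.ne_zero).2 hπ
  obtain ⟨q, hq⟩ := Ideal.mem_span_singleton.1 h
  let f := MvPowerSeries.map (σ := Fin 2) (Ideal.Quotient.mk (Ideal.span {π}))
  have hq0 : f q = 0 := by
    have := congrArg f hq
    rw [map_mul, map_mul, map_C, Ideal.Quotient.eq_zero_iff_mem.2 (Ideal.mem_span_singleton_self π), map_zero,
      zero_mul, eq_comm, mul_eq_zero] at this
    refine this.resolve_left fun h0 => hπr ?_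
    have := congrArg (coeff (ex 0 0)) h0
    rw [map_sub, map_sub] at this
    have hz : coeff (ex 0 0) (f (X 0 * X 1)) = 0 := by
      rw [coeff_map, show (X 0 * X 1 : MvPowerSeries (Fin 2) R) = X 0 * X 1 * 1 from (mul_one _).symm,
        coeff_X_mul_X_mul, if_neg (by simp), map_zero]
    rw [hz, map_C, show ex 0 0 = (0 : Fin 2 →₀ ℕ) by simp [ex], coeff_zero_C, map_zero, zero_sub, neg_eq_zero,
      Ideal.Quotient.eq_zero_iff_mem, Ideal.mem_span_singleton] at this
    exact this
  have hdiv : ∀ e, π ∣ coeff e q := fun e => by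
    have := congrArg (coeff e) hq0
    rwa [coeff_map, map_zero, Ideal.Quotient.eq_zero_iff_mem, Ideal.mem_span_singleton] at this
  choose q' hq' using hdiv
  have hqq : q = C π * (show MvPowerSeries (Fin 2) R from q') := by
    ext e
    rw [coeff_C_mul, hq']
    rfl
  rw [hqq, mul_left_comm] at hq
  refine Ideal.mem_span_singleton.2 ⟨q', mul_left_cancel₀ ?_ hq⟩
  intro h0
  exact hπ.ne_zero (by simpa using congrArg (constantCoeff (σ := Fin 2) (R := R)) h0)

/-- A prime dividing `s` but not `r` divides one of the factors coefficientwise. -/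
theorem dvd_left_or_dvd_right {r s π : R} (hr : r ∈ maximalIdeal R) (hπ : Prime π) (hπr : ¬ π ∣ r)
    (hπs : π ∣ s) (c d : ℤ → R) (h : nf c * nf d - C s ∈ annI r) :
    (∀ i, π ∣ c i) ∨ ∀ i, π ∣ d i := by
  let T := R ⧸ Ideal.span {π}
  have : (Ideal.span {π}).IsPrime := (Ideal.span_singleton_prime hπ.ne_zero).2 hπ
  have : IsLocalRing T := .of_surjective' (Ideal.Quotient.mk _) Ideal.Quotient.mk_surjective
  have hloc : IsLocalHom (Ideal.Quotient.mk (Ideal.span {π})) := .of_surjective _ Ideal.Quotient.mk_surjective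
  have hrT : Ideal.Quotient.mk (Ideal.span {π}) r ∈ maximalIdeal T := map_nonunit _ r hr
  have hrT0 : Ideal.Quotient.mk (Ideal.span {π}) r ≠ 0 := by
    rwa [Ne, Ideal.Quotient.eq_zero_iff_mem, Ideal.mem_span_singleton]
  have hT : ¬ IsField T := fun hf => hrT0 (by rwa [isField_iff_maximalIdeal_eq.1 hf, Ideal.mem_bot] at hrT)
  obtain ⟨V, _, _, _, f, hf, hfl⟩ := DVRDom.exists_dvr T hT
  let φ := f.comp (Ideal.Quotient.mk (Ideal.span {π}))
  have hφ : ∀ x, φ x = 0 ↔ π ∣ x := fun x => by
    show f _ = 0 ↔ _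
    rw [map_eq_zero_iff f hf, Ideal.Quotient.eq_zero_iff_mem, Ideal.mem_span_singleton]
  have hrV : φ r ∈ maximalIdeal V := map_nonunit f _ hrT
  by_contra hcon
  rw [not_or, not_forall, not_forall] at hcon
  obtain ⟨⟨i, hi⟩, ⟨j, hj⟩⟩ := hcon
  have := dvd_coeff_mul_coeff φ hrV c d h i j
  rw [(hφ s).2 hπs, zero_dvd_iff, mul_eq_zero, hφ, hφ] at this
  rcases this with h0 | h0
  · exact hi ((hπ.dvd_or_dvd h0).resolve_right fun h0 => hπr (hπ.dvd_of_dvd_pow h0))
  · exact hj ((hπ.dvd_or_dvd h0).resolve_right fun h0 => hπr (hπ.dvd_of_dvd_pow h0))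

theorem good_nf {r : R} (hr : r ∈ maximalIdeal R) (hr0 : r ≠ 0) (s : R) :
    s ≠ 0 → ∀ c d : ℤ → R, nf c * nf d - C s ∈ annI r → Good r (nf c) := by
  induction s using WellFounded.induction (wellFounded_dvdNotUnit (α := R)) with
  | _ s ih =>
    intro hs c d h
    by_cases hsr : ∀ π, Prime π → π ∣ s → π ∣ r
    · have hdvd : ∀ i : ℤ, s ∣ c i * d (-i) * r ^ i.natAbs := fun i => by
        refine dvd_of_forall_localization _ hs _ fun π hπ' hπ hπs => ?_
        have := hπ'
        have := isDiscreteValuationRing_localization hπ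
        refine (dvd_coeff_mul_coeff (algebraMap R (Localization.AtPrime (Ideal.span {π})))
          ((IsLocalization.AtPrime.to_map_mem_maximal_iff _ (Ideal.span {π}) r).2
            (Ideal.mem_span_singleton.2 (hsr π hπ hπs))) c d h i (-i)).trans ?_
        rw [← map_mul, mul_mul_mul_comm, ← pow_add]
        have he : (-i).toNat + (- -i).toNat = i.natAbs := by omega
        rw [he]
      obtain ⟨N, u, hN⟩ := exists_coeff_eq_mul_unit hr hs c d h hdvd
      obtain ⟨n, rfl | rfl⟩ := N.eq_nat_or_neg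
      · exact good_of_index hr hr0 hs c d h hsr n u (by simpa using hN)
      · have := (good_of_index hr hr0 hs _ _ (swap_nf_mul h) hsr n u (by simpa using hN)).swap
        rw [swap_nf] at this
        simpa only [neg_neg] using this
    · push Not at hsr
      obtain ⟨π, hπ, ⟨s', rfl⟩, hπr⟩ := hsr
      have hs' : s' ≠ 0 := right_ne_zero_of_mul hs
      have hlt : DvdNotUnit s' (π * s') := ⟨hs', π, hπ.not_unit, mul_comm _ _⟩
      rcases dvd_left_or_dvd_right hr hπ hπr (dvd_mul_right π s') c d h with hc | hd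
      · choose c' hc' using hc
        have he : nf c = C π * nf c' := by
          rw [nf_mul_C]; exact congrArg nf (funext hc')
        rw [he] at h ⊢
        rw [map_mul, mul_assoc, ← mul_sub] at h
        obtain ⟨t, m, n, u, hu, hmn, h'⟩ := ih s' hlt hs' c' d (mem_annI_of_C_mul hπ hπr h)
        refine ⟨π * t, m, n, u, hu, hmn, ?_⟩
        have := Ideal.mul_mem_left _ (C π) h'
        rw [map_mul]
        convert this using 1
        ring
      · choose d' hd' using hd
        have he : nf d = C π * nf d' := by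
          rw [nf_mul_C]; exact congrArg nf (funext hd')
        rw [he, map_mul, mul_left_comm, ← mul_sub] at h
        exact ih s' hlt hs' c d' (mem_annI_of_C_mul hπ hπr h)

omit [UniqueFactorizationMonoid R] [IsDomain R] in
/-- Normal forms exist over a complete local ring. -/
theorem exists_nf [IsAdicComplete (maximalIdeal R) R] {r : R} (hr : r ∈ maximalIdeal R)
    (f : MvPowerSeries (Fin 2) R) : ∃ c : ℤ → R, f - nf c ∈ annI r := by
  classical
  let P := fun (g : ℕ → R) (n : ℕ) => ∑ k ∈ Finset.range n, g k * r ^ k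
  have hS : ∀ g : ℕ → R, ∃ L, ∀ n, P g n ≡ L [SMOD maximalIdeal R ^ n • (⊤ : Submodule R R)] := fun g => by
    refine IsPrecomplete.prec inferInstance fun {m n} hmn => ?_
    rw [SModEq.sub_mem, smul_eq_mul, Ideal.mul_top, ← neg_mem_iff, neg_sub, ← Finset.sum_Ico_eq_sub _ hmn]
    exact Ideal.sum_mem _ fun k hk =>
      Ideal.mul_mem_left _ _ (Ideal.pow_le_pow_right (Finset.mem_Ico.1 hk).1 (Ideal.pow_mem_pow hr k))
  choose S hS using hS
  have hrec : ∀ g : ℕ → R, S g = g 0 + r * S (fun k => g (k + 1)) := fun g => by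
    refine sub_eq_zero.1 (IsHausdorff.haus (I := maximalIdeal R) inferInstance _ fun n => ?_)
    have h1 := hS g (n + 1)
    have h2 := hS (fun k => g (k + 1)) n
    rw [SModEq.sub_mem, smul_eq_mul, Ideal.mul_top] at h1 h2
    rw [SModEq.sub_mem, smul_eq_mul, Ideal.mul_top, sub_zero]
    have hP : P g (n + 1) = g 0 + r * P (fun k => g (k + 1)) n := by
      simp only [P, Finset.sum_range_succ', Finset.mul_sum, pow_zero, mul_one]
      rw [add_comm]
      congr 1
      exact Finset.sum_congr rfl fun k _ => by ring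
    have := Ideal.sub_mem _ (Ideal.mul_mem_left _ r h2) (Ideal.pow_le_pow_right (Nat.le_succ n) h1)
    rw [hP] at this
    convert this using 1
    ring
  let h : MvPowerSeries (Fin 2) R := fun e => S fun k => coeff (ex (e 0 + (k + 1)) (e 1 + (k + 1))) f
  have hh : ∀ a b : ℕ, coeff (ex a b) h = S fun k => coeff (ex (a + (k + 1)) (b + (k + 1))) f := fun a b => by
    rw [coeff_apply]; simp [h]
  have hh' : ∀ a b : ℕ, (S fun k => coeff (ex (a + k) (b + k)) f) =
      coeff (ex a b) f + r * coeff (ex a b) h := fun a b => by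
    rw [hrec, hh]; simp
  refine ⟨fun n => S fun k => coeff (ex ((-n).toNat + k) (n.toNat + k)) f, Ideal.mem_span_singleton.2 ⟨h, ?_⟩⟩
  ext e
  rw [eq_ex e, sub_mul, map_sub, map_sub, coeff_X_mul_X_mul, coeff_C_mul, coeff_nf]
  generalize e 0 = a
  generalize e 1 = b
  by_cases hab : a = 0 ∨ b = 0
  · rw [if_pos hab, if_neg (by omega)]
    simp only [show (-((b : ℤ) - (a : ℤ))).toNat = a by omega, show ((b : ℤ) - (a : ℤ)).toNat = b by omega]
    rw [hh']
    ring
  · rw [if_neg hab, if_pos (by omega), hh (a - 1) (b - 1)]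
    have : (S fun k => coeff (ex (a - 1 + (k + 1)) (b - 1 + (k + 1))) f) =
        S fun k => coeff (ex (a + k) (b + k)) f := by
      congr 1
      funext k
      rw [show a - 1 + (k + 1) = a + k by omega, show b - 1 + (k + 1) = b + k by omega]
    rw [this, hh']
    ring

/-- Elements of `R[[x,y]]/(xy - r)` invertible in the generic fibre. -/
theorem good_of_mul_eq [IsAdicComplete (maximalIdeal R) R] {r : R} (hr0 : r ≠ 0) {s : R} (hs : s ≠ 0)
    (f g : MvPowerSeries (Fin 2) R) (h : f * g - C s ∈ annI r) : Good r f := by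
  by_cases hr : r ∈ maximalIdeal R
  · obtain ⟨c, hc⟩ := exists_nf hr f
    obtain ⟨d, hd⟩ := exists_nf hr g
    have h' : nf c * nf d - C s ∈ annI r := by
      have := Ideal.sub_mem _ (Ideal.sub_mem _ h (Ideal.mul_mem_right g _ hc)) (Ideal.mul_mem_left _ (nf c) hd)
      convert this using 1
      ring
    obtain ⟨t, m, n, u, hu, hmn, ht⟩ := good_nf hr hr0 s hs c d h'
    exact ⟨t, m, n, u, hu, hmn, by simpa using Ideal.add_mem _ hc ht⟩
  · refine ⟨1, 0, 0, 1, isUnit_one, rfl, ?_⟩
    have : annI r = ⊤ := by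
      refine Ideal.eq_top_of_isUnit_mem _ (Ideal.subset_span rfl) ?_
      rw [MvPowerSeries.isUnit_iff_constantCoeff, map_sub, map_mul, constantCoeff_X, constantCoeff_C, zero_mul, zero_sub,
        IsUnit.neg_iff]
      simpa [mem_maximalIdeal] using hr
    rw [this]
    trivial

end Groth.Agent.CAlgH.AnnulusUnits
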