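import Mathlib.RingTheory.LaurentSeries
import Mathlib.RingTheory.MvPowerSeries.Equiv
import Mathlib.RingTheory.DiscreteValuationRing.Basic

/-!
# The algebra `R[[x, y]] / (xy - r)`: normal forms and the Gauss lemma

For a ring map `φ : R → W` with `φ r` nilpotent, `theta` is the map `R[[x, y]] → W((T))` with
`x ↦ φ r / T` and `y ↦ T`; it kills `xy - r`.
-/

set_option autoImplicit false

universe u v

open Function Finset

namespace Groth.Agent.CAlgH.AnnulusUnits

section Eval

variable {S : Type u} [CommRing S] (z : S) (M : ℕ) (hz : z ^ M = 0)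

include hz in
theorem eval_trunc_coe (P : Polynomial S) :
    (PowerSeries.trunc M (P : PowerSeries S)).eval z = P.eval z := by
  rw [← Polynomial.eval₂_id, PowerSeries.eval₂_trunc_eq_sum_range,
    Polynomial.eval_eq_sum_range' (n := max M (P.natDegree + 1)) (by omega)]
  simp only [RingHom.id_apply, Polynomial.coeff_coe]
  exact Finset.sum_subset (Finset.range_mono (le_max_left M (P.natDegree + 1))) fun i _ hi => by
    rw [Finset.mem_range, not_lt] at hi
    rw [pow_eq_zero_of_le hi hz, mul_zero]

/-- Evaluation of a power series at a nilpotent element. -/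
noncomputable def evNil : PowerSeries S →+* S :=
  RingHom.mk' { toFun := fun f => (PowerSeries.trunc M f).eval z
                map_one' := by
                  rw [← Polynomial.coe_one, eval_trunc_coe z M hz, Polynomial.eval_one]
                map_mul' := fun f g => by
                  rw [← PowerSeries.trunc_trunc_mul_trunc, ← Polynomial.coe_mul, eval_trunc_coe z M hz,
                    Polynomial.eval_mul] }
    fun f g => by simp

theorem evNil_apply (f : PowerSeries S) :
    evNil z M hz f = ∑ k ∈ range M, PowerSeries.coeff k f * z ^ k := by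
  show (PowerSeries.trunc M f).eval z = _
  rw [← Polynomial.eval₂_id, PowerSeries.eval₂_trunc_eq_sum_range]
  simp

end Eval

open MvPowerSeries

variable {R : Type u} [CommRing R]

/-- The exponent of `x ^ a * y ^ b`. -/
noncomputable def ex (a b : ℕ) : Fin 2 →₀ ℕ := Finsupp.single 0 a + Finsupp.single 1 b

@[simp] theorem ex_zero_apply (a b : ℕ) : ex a b 0 = a := by simp [ex]

@[simp] theorem ex_one_apply (a b : ℕ) : ex a b 1 = b := by simp [ex]

theorem eq_ex (e : Fin 2 →₀ ℕ) : e = ex (e 0) (e 1) := by
  ext i; fin_cases i <;> simp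

/-- The normal form with coefficient `c n` at `y ^ n` (`n ≥ 0`) resp. `x ^ (-n)` (`n ≤ 0`). -/
def nf (c : ℤ → R) : MvPowerSeries (Fin 2) R :=
  fun e => if e 0 = 0 ∨ e 1 = 0 then c ((e 1 : ℤ) - (e 0 : ℤ)) else 0

theorem coeff_nf (c : ℤ → R) (a b : ℕ) :
    coeff (ex a b) (nf c) = if a = 0 ∨ b = 0 then c ((b : ℤ) - (a : ℤ)) else 0 := by
  rw [coeff_apply]; simp [nf]

/-- Exchange of the two variables. -/
noncomputable def swap : MvPowerSeries (Fin 2) R ≃ₐ[R] MvPowerSeries (Fin 2) R :=
  renameEquiv R (Equiv.swap 0 1)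

theorem coeff_swap (f : MvPowerSeries (Fin 2) R) (a b : ℕ) :
    coeff (ex a b) (swap f) = coeff (ex b a) f := by
  have : ex a b = Finsupp.embDomain (Equiv.swap (0 : Fin 2) 1).toEmbedding (ex b a) := by
    rw [Finsupp.embDomain_eq_mapDomain, ex, ex, Finsupp.mapDomain_add, Finsupp.mapDomain_single,
      Finsupp.mapDomain_single]
    simp [add_comm]
  rw [this]
  exact coeff_embDomain_rename _ _ _

theorem swap_nf (c : ℤ → R) : swap (nf c) = nf fun n => c (-n) := by
  ext e
  rw [eq_ex e, coeff_swap, coeff_nf, coeff_nf]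
  simp [or_comm]

theorem swap_X_zero : swap (X 0 : MvPowerSeries (Fin 2) R) = X 1 := by
  simp [swap]

theorem swap_X_one : swap (X 1 : MvPowerSeries (Fin 2) R) = X 0 := by
  simp [swap]

theorem swap_C (r : R) : swap (C r : MvPowerSeries (Fin 2) R) = C r := by
  simp [swap]

variable {W : Type v} [CommRing W] (φ : R →+* W) (r : R) (M : ℕ) (hM : φ r ^ M = 0)

/-- The coefficient map on the series in `y`. -/
noncomputable def iota : MvPowerSeries (Fin 1) R →+* LaurentSeries W :=
  (HahnSeries.ofPowerSeries ℤ W).comp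
    ((PowerSeries.map φ).comp (renameEquiv R finOneEquiv).toRingEquiv.toRingHom)

include hM in
theorem single_pow_eq_zero : (HahnSeries.single (-1 : ℤ) (φ r) : LaurentSeries W) ^ M = 0 := by
  rw [HahnSeries.single_pow, hM, map_zero]

/-- `x ↦ φ r / T`, `y ↦ T`. -/
noncomputable def theta : MvPowerSeries (Fin 2) R →+* LaurentSeries W :=
  ((evNil _ M (single_pow_eq_zero φ r M hM)).comp (PowerSeries.map (iota φ))).comp
    (finSuccEquiv R 1).toRingEquiv.toRingHom

theorem coeff_iota (g : MvPowerSeries (Fin 1) R) (j : ℤ) :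
    (iota φ g).coeff j = if j < 0 then 0 else φ (coeff (Finsupp.single 0 j.natAbs) g) := by
  show ((PowerSeries.map φ (renameEquiv R finOneEquiv g) : PowerSeries W) : LaurentSeries W).coeff j = _
  rw [PowerSeries.coeff_coe]
  split_ifs
  · rfl
  · rw [PowerSeries.coeff_map]
    congr 1
    have : (Finsupp.single () j.natAbs : Unit →₀ ℕ) =
        Finsupp.embDomain (finOneEquiv).toEmbedding (Finsupp.single 0 j.natAbs) := by
      rw [Finsupp.embDomain_eq_mapDomain, Finsupp.mapDomain_single]
    rw [PowerSeries.coeff, this]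
    exact coeff_embDomain_rename _ _ _

theorem coeff_theta (f : MvPowerSeries (Fin 2) R) (n : ℤ) :
    (theta φ r M hM f).coeff n = ∑ k ∈ range M,
      (if n + k < 0 then 0 else φ (coeff (ex k (n + k).natAbs) f)) * φ r ^ k := by
  show (evNil _ M (single_pow_eq_zero φ r M hM) (PowerSeries.map (iota φ) (finSuccEquiv R 1 f))).coeff n = _
  rw [evNil_apply, HahnSeries.coeff_sum]
  refine Finset.sum_congr rfl fun k _ => ?_
  rw [HahnSeries.single_pow, PowerSeries.coeff_map]
  have hn : n = (n + k) + k • (-1 : ℤ) := by simp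
  conv_lhs => rw [hn, HahnSeries.coeff_mul_single_add, coeff_iota]
  congr 2
  rw [coeff_coeff_finSuccEquiv]
  have he : ∀ m : ℕ, (Finsupp.single (0 : Fin 1) m).cons k = ex k m := fun m => by
    ext i; fin_cases i <;> simp [Finsupp.cons]
  rw [he]

theorem theta_C (s : R) : theta φ r M hM (C s) = evNil _ M (single_pow_eq_zero φ r M hM)
    (PowerSeries.C (HahnSeries.C (φ s))) := by
  show evNil _ M (single_pow_eq_zero φ r M hM) (PowerSeries.map (iota φ) (finSuccEquiv R 1 (C s))) = _
  rw [finSuccEquiv_C, PowerSeries.map_C]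
  congr 2
  show HahnSeries.ofPowerSeries ℤ W (PowerSeries.map φ (renameEquiv R finOneEquiv (C s))) = _
  rw [show renameEquiv R finOneEquiv (C s) = C s from rename_C _ s]
  show HahnSeries.ofPowerSeries ℤ W (PowerSeries.map φ (PowerSeries.C s)) = _
  rw [PowerSeries.map_C, HahnSeries.ofPowerSeries_C]

theorem coeff_theta_C (hM0 : 0 < M) (s : R) (n : ℤ) :
    (theta φ r M hM (C s)).coeff n = if n = 0 then φ s else 0 := by
  rw [theta_C, evNil_apply, Finset.sum_eq_single_of_mem 0 (Finset.mem_range.2 hM0)
    (fun k _ hk => by rw [PowerSeries.coeff_C, if_neg hk, zero_mul]), PowerSeries.coeff_C, if_pos rfl,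
    pow_zero, mul_one]
  simp [HahnSeries.coeff_single]

theorem coeff_theta_nf (c : ℤ → R) (n : ℤ) (hM0 : 0 < M) :
    (theta φ r M hM (nf c)).coeff n = φ (c n * r ^ (-n).toNat) := by
  rw [coeff_theta, map_mul, map_pow]
  rcases le_or_gt 0 n with hn | hn
  · rw [Finset.sum_eq_single_of_mem 0 (Finset.mem_range.2 hM0)]
    · rw [if_neg (by omega), coeff_nf, if_pos (Or.inl rfl)]
      congr 2
      · congr 1; omega
      · omega
    · intro k _ hk
      rw [if_neg (by omega), coeff_nf, if_neg (by omega), map_zero, zero_mul]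
  · by_cases hnM : (-n).toNat < M
    · rw [Finset.sum_eq_single_of_mem (-n).toNat (Finset.mem_range.2 hnM)]
      · rw [if_neg (by omega), coeff_nf, if_pos (Or.inr (by omega))]
        congr 3
        omega
      · intro k _ hk
        split_ifs with h
        · rw [zero_mul]
        · rw [coeff_nf, if_neg (by omega), map_zero, zero_mul]
    · rw [pow_eq_zero_of_le (by omega) hM, mul_zero]
      refine Finset.sum_eq_zero fun k hk => ?_
      rw [Finset.mem_range] at hk
      rw [if_pos (by omega), zero_mul]

theorem theta_mul_nf (hM0 : 0 < M) (c d : ℤ → R) (s : R)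
    (h : nf c * nf d - C s ∈ Ideal.span {(X 0 * X 1 - C r : MvPowerSeries (Fin 2) R)}) :
    theta φ r M hM (nf c) * theta φ r M hM (nf d) = HahnSeries.C (φ s) := by
  obtain ⟨q, hq⟩ := Ideal.mem_span_singleton.1 h
  have h0 : theta φ r M hM (X 0 * X 1) = theta φ r M hM (C r) := by
    ext n
    rw [coeff_theta_C φ r M hM hM0, coeff_theta]
    have hx : (X 0 * X 1 : MvPowerSeries (Fin 2) R) = monomial (ex 1 1) 1 := by
      rw [X, X, monomial_mul_monomial, mul_one, ex]
    simp only [hx, coeff_monomial]
    rcases eq_or_ne n 0 with rfl | hn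
    · rw [if_pos rfl]
      by_cases h1 : 1 < M
      · rw [Finset.sum_eq_single_of_mem 1 (Finset.mem_range.2 h1)]
        · simp
        · intro k _ hk
          rw [if_neg (by omega), if_neg (fun hh => hk (by simpa using DFunLike.congr_fun hh 0)), map_zero,
            zero_mul]
      · obtain rfl : M = 1 := by omega
        have hne : ex 0 0 ≠ ex 1 1 := fun hh => by simpa using DFunLike.congr_fun hh 0
        simpa [hne] using hM.symm
    · rw [if_neg hn]
      refine Finset.sum_eq_zero fun k _ => ?_
      split_ifs with h1 h2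
      · rw [zero_mul]
      · have := DFunLike.congr_fun h2 0
        have := DFunLike.congr_fun h2 1
        simp at *
        omega
      · rw [map_zero, zero_mul]
  have := congrArg (theta φ r M hM) hq
  rw [map_sub, map_mul, map_mul, map_sub, h0, sub_self, zero_mul, sub_eq_zero] at this
  rw [this]
  ext n
  rw [coeff_theta_C φ r M hM hM0]
  simp [HahnSeries.coeff_single]

end Groth.Agent.CAlgH.AnnulusUnits
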